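import Mathlib

/-!
Elementwise criteria for mono/epi maps on homology of complexes of modules, acyclicity of the cokernel
of a quasi-isomorphism, and contracting homotopies of acyclic projective complexes indexed by `ℕ`.
-/

open CategoryTheory Limits

namespace Groth.Agent.CxLib

universe v u

variable {R : Type u} [Ring R] {ι : Type*} {c : ComplexShape ι}

section elementwise

variable (K : HomologicalComplex (ModuleCat.{v} R) c)

lemma iCycles_injective (i : ι) : Function.Injective (K.iCycles i).hom :=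
  (ModuleCat.mono_iff_injective _).mp inferInstance

lemma homologyπ_surjective (i : ι) : Function.Surjective (K.homologyπ i).hom :=
  (ModuleCat.epi_iff_surjective _).mp inferInstance

lemma iCycles_d_apply (i j : ι) (z : K.cycles i) : (K.d i j).hom ((K.iCycles i).hom z) = 0 := by
  have h : ((K.iCycles i) ≫ K.d i j).hom z = 0 := by rw [K.iCycles_d]; rfl
  exact h

lemma exists_iCycles_eq (i j : ι) (hj : c.next i = j) (x : K.X i) (hx : (K.d i j).hom x = 0) :
    ∃ z, (K.iCycles i).hom z = x := by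
  have h := ShortComplex.exact_of_f_is_kernel
    (ShortComplex.mk (K.iCycles i) (K.d i j) (K.iCycles_d i j)) (K.cyclesIsKernel i j hj)
  rw [ShortComplex.moduleCat_exact_iff] at h
  exact h x hx

lemma homologyπ_eq_zero_iff (i j : ι) (hj : c.prev i = j) (z : K.cycles i) :
    (K.homologyπ i).hom z = 0 ↔ ∃ w, (K.d j i).hom w = (K.iCycles i).hom z := by
  have h := ShortComplex.exact_of_g_is_cokernel
    (ShortComplex.mk (K.toCycles j i) (K.homologyπ i) (K.toCycles_comp_homologyπ j i))
    (K.homologyIsCokernel j i hj)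
  rw [ShortComplex.moduleCat_exact_iff] at h
  have hd : ∀ w, (K.iCycles i).hom ((K.toCycles j i).hom w) = (K.d j i).hom w := fun w => by
    have := K.toCycles_i j i
    exact congrArg (fun φ => φ.hom w) this
  constructor
  · intro hz
    obtain ⟨w, hw⟩ := h z hz
    refine ⟨w, ?_⟩
    have hw' : (K.toCycles j i).hom w = z := hw
    rw [← hd, hw']
  · rintro ⟨w, hw⟩
    have : (K.toCycles j i).hom w = z := iCycles_injective K i ((hd w).trans hw)
    rw [← this]
    exact congrArg (fun φ => φ.hom w) (K.toCycles_comp_homologyπ j i)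

variable {K} {L : HomologicalComplex (ModuleCat.{v} R) c} (f : K ⟶ L)

lemma iCycles_cyclesMap (i : ι) (z : K.cycles i) :
    (L.iCycles i).hom ((HomologicalComplex.cyclesMap f i).hom z) = (f.f i).hom ((K.iCycles i).hom z) :=
  congrArg (fun φ => φ.hom z) (HomologicalComplex.cyclesMap_i f i)

lemma homologyMap_homologyπ (i : ι) (z : K.cycles i) :
    (HomologicalComplex.homologyMap f i).hom ((K.homologyπ i).hom z) =
      (L.homologyπ i).hom ((HomologicalComplex.cyclesMap f i).hom z) :=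
  congrArg (fun φ => φ.hom z) (HomologicalComplex.homologyπ_naturality f i)

/-- Injectivity on homology, elementwise. -/
theorem mono_homologyMap_iff (i j k : ι) (hj : c.prev i = j) (hk : c.next i = k) :
    Mono (HomologicalComplex.homologyMap f i) ↔
      ∀ x, (K.d i k).hom x = 0 → (∃ w, (L.d j i).hom w = (f.f i).hom x) → ∃ w, (K.d j i).hom w = x := by
  rw [ModuleCat.mono_iff_injective]
  constructor
  · intro h x hx hw
    obtain ⟨z, rfl⟩ := exists_iCycles_eq K i k hk x hx
    refine (homologyπ_eq_zero_iff K i j hj z).mp (h ?_)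
    show (HomologicalComplex.homologyMap f i).hom _ = (HomologicalComplex.homologyMap f i).hom 0
    rw [map_zero, homologyMap_homologyπ]
    refine (homologyπ_eq_zero_iff L i j hj _).mpr ?_
    obtain ⟨w, hw⟩ := hw
    exact ⟨w, by rw [iCycles_cyclesMap, hw]⟩
  · intro h a b hab
    rw [← sub_eq_zero]
    obtain ⟨z, hz⟩ := homologyπ_surjective K i (a - b)
    rw [← hz]
    have h0 : (L.homologyπ i).hom ((HomologicalComplex.cyclesMap f i).hom z) = 0 := by
      rw [← homologyMap_homologyπ, hz, map_sub]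
      exact sub_eq_zero.mpr hab
    obtain ⟨w, hw⟩ := (homologyπ_eq_zero_iff L i j hj _).mp h0
    exact (homologyπ_eq_zero_iff K i j hj z).mpr
      (h _ (iCycles_d_apply K i k z) ⟨w, by rw [hw, iCycles_cyclesMap]⟩)

/-- Surjectivity on homology, elementwise. -/
theorem epi_homologyMap_iff (i j k : ι) (hj : c.prev i = j) (hk : c.next i = k) :
    Epi (HomologicalComplex.homologyMap f i) ↔
      ∀ y, (L.d i k).hom y = 0 → ∃ x, (K.d i k).hom x = 0 ∧ ∃ w, (L.d j i).hom w = y - (f.f i).hom x := by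
  rw [ModuleCat.epi_iff_surjective]
  constructor
  · intro h y hy
    obtain ⟨z, rfl⟩ := exists_iCycles_eq L i k hk y hy
    obtain ⟨a, ha⟩ := h ((L.homologyπ i).hom z)
    obtain ⟨x, rfl⟩ := homologyπ_surjective K i a
    refine ⟨(K.iCycles i).hom x, iCycles_d_apply K i k x, ?_⟩
    have h0 : (L.homologyπ i).hom (z - (HomologicalComplex.cyclesMap f i).hom x) = 0 := by
      rw [map_sub, ← homologyMap_homologyπ, sub_eq_zero]
      exact ha.symm
    obtain ⟨w, hw⟩ := (homologyπ_eq_zero_iff L i j hj _).mp h0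
    exact ⟨w, by rw [hw, map_sub, iCycles_cyclesMap]⟩
  · intro h b
    obtain ⟨z, rfl⟩ := homologyπ_surjective L i b
    obtain ⟨x, hx, w, hw⟩ := h _ (iCycles_d_apply L i k z)
    obtain ⟨x', rfl⟩ := exists_iCycles_eq K i k hk x hx
    refine ⟨(K.homologyπ i).hom x', ?_⟩
    show (HomologicalComplex.homologyMap f i).hom _ = _
    rw [homologyMap_homologyπ, eq_comm, ← sub_eq_zero, ← map_sub]
    exact (homologyπ_eq_zero_iff L i j hj _).mpr ⟨w, by rw [hw, map_sub, iCycles_cyclesMap]⟩

end elementwise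

section chain

variable {C D E : ChainComplex (ModuleCat.{v} R) ℕ}

lemma comm_apply (f : C ⟶ D) (i j : ℕ) (x : C.X i) :
    (D.d i j).hom ((f.f i).hom x) = (f.f j).hom ((C.d i j).hom x) :=
  congrArg (fun φ => φ.hom x) (f.comm i j)

lemma d_d_apply (C : ChainComplex (ModuleCat.{v} R) ℕ) (i j k : ℕ) (x : C.X i) :
    (C.d j k).hom ((C.d i j).hom x) = 0 := by
  have h : (C.d i j ≫ C.d j k).hom x = 0 := by rw [C.d_comp_d]; rfl
  exact h

lemma d_zero_zero (C : ChainComplex (ModuleCat.{v} R) ℕ) (x : C.X 0) : (C.d 0 0).hom x = 0 := by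
  rw [C.shape 0 0 (by simp)]
  rfl

theorem epi_homologyMap_zero_iff (f : C ⟶ D) :
    Epi (HomologicalComplex.homologyMap f 0) ↔ ∀ y, ∃ x w, (D.d 1 0).hom w = y - (f.f 0).hom x := by
  rw [epi_homologyMap_iff f 0 1 0 (by simp) (ChainComplex.next_nat_zero)]
  exact ⟨fun h y => let ⟨x, _, w⟩ := h y (d_zero_zero D y); ⟨x, w⟩,
    fun h y _ => let ⟨x, w⟩ := h y; ⟨x, d_zero_zero C x, w⟩⟩

theorem mono_homologyMap_zero_iff (f : C ⟶ D) :
    Mono (HomologicalComplex.homologyMap f 0) ↔
      ∀ x, (∃ w, (D.d 1 0).hom w = (f.f 0).hom x) → ∃ w, (C.d 1 0).hom w = x := by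
  rw [mono_homologyMap_iff f 0 1 0 (by simp) (ChainComplex.next_nat_zero)]
  exact ⟨fun h x => h x (d_zero_zero C x), fun h x _ => h x⟩

theorem epi_homologyMap_succ_iff (f : C ⟶ D) (n : ℕ) :
    Epi (HomologicalComplex.homologyMap f (n + 1)) ↔
      ∀ y, (D.d (n + 1) n).hom y = 0 →
        ∃ x, (C.d (n + 1) n).hom x = 0 ∧ ∃ w, (D.d (n + 2) (n + 1)).hom w = y - (f.f (n + 1)).hom x :=
  epi_homologyMap_iff f (n + 1) (n + 2) n (by simp) (ChainComplex.next_nat_succ n)

theorem mono_homologyMap_succ_iff (f : C ⟶ D) (n : ℕ) :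
    Mono (HomologicalComplex.homologyMap f (n + 1)) ↔
      ∀ x, (C.d (n + 1) n).hom x = 0 → (∃ w, (D.d (n + 2) (n + 1)).hom w = (f.f (n + 1)).hom x) →
        ∃ w, (C.d (n + 2) (n + 1)).hom w = x :=
  mono_homologyMap_iff f (n + 1) (n + 2) n (by simp) (ChainComplex.next_nat_succ n)

/-- The cokernel of a degreewise injective quasi-isomorphism is acyclic. -/
theorem exists_d_eq_of_quasiIso (f : C ⟶ D) (p : D ⟶ E) [QuasiIso f]
    (hf : ∀ q, Function.Injective (f.f q).hom) (hp : ∀ q, Function.Surjective (p.f q).hom)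
    (hfp : ∀ q, Function.Exact (f.f q).hom (p.f q).hom) :
    (∀ x : E.X 0, ∃ y, (E.d 1 0).hom y = x) ∧
    (∀ n, ∀ x : E.X (n + 1), (E.d (n + 1) n).hom x = 0 → ∃ y, (E.d (n + 2) (n + 1)).hom y = x) := by
  haveI : ∀ i, IsIso (HomologicalComplex.homologyMap f i) := fun i => inferInstance
  constructor
  · intro x
    obtain ⟨a, rfl⟩ := hp 0 x
    obtain ⟨c', e, he⟩ := (epi_homologyMap_zero_iff f).mp inferInstance a
    refine ⟨(p.f 1).hom e, ?_⟩
    rw [comm_apply, he, map_sub, (hfp 0).apply_apply_eq_zero, sub_zero]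
  · intro n x hx
    obtain ⟨a, rfl⟩ := hp (n + 1) x
    rw [comm_apply] at hx
    obtain ⟨a', ha'⟩ := (hfp n _).mp hx
    obtain ⟨b', hb'⟩ : ∃ b', (C.d (n + 1) n).hom b' = a' := by
      cases n with
      | zero => exact (mono_homologyMap_zero_iff f).mp inferInstance a' ⟨a, ha'.symm⟩
      | succ n =>
        refine (mono_homologyMap_succ_iff f n).mp inferInstance a' (hf n ?_) ⟨a, ha'.symm⟩
        rw [← comm_apply, ha', d_d_apply, map_zero]
    obtain ⟨c', -, e, he⟩ := (epi_homologyMap_succ_iff f n).mp inferInstance (a - (f.f (n + 1)).hom b')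
      (by rw [map_sub, comm_apply, hb', ha', sub_self])
    refine ⟨(p.f (n + 2)).hom e, ?_⟩
    rw [comm_apply, he, map_sub, map_sub, (hfp _).apply_apply_eq_zero, (hfp _).apply_apply_eq_zero,
      sub_zero, sub_zero]

/-- A contracting homotopy of an acyclic complex of projective modules. -/
theorem exists_contracting (E : ChainComplex (ModuleCat.{v} R) ℕ) [∀ q, Module.Projective R (E.X q)]
    (h0 : ∀ x : E.X 0, ∃ y, (E.d 1 0).hom y = x)
    (h1 : ∀ n, ∀ x : E.X (n + 1), (E.d (n + 1) n).hom x = 0 → ∃ y, (E.d (n + 2) (n + 1)).hom y = x) :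
    ∃ s : ∀ n, E.X n →ₗ[R] E.X (n + 1), (∀ x, (E.d 1 0).hom (s 0 x) = x) ∧
      ∀ n x, (E.d (n + 2) (n + 1)).hom (s (n + 1) x) + s n ((E.d (n + 1) n).hom x) = x := by
  obtain ⟨s0, hs0⟩ := Module.projective_lifting_property (E.d 1 0).hom LinearMap.id (fun x => h0 x)
  have step : ∀ (n : ℕ) (t : E.X n →ₗ[R] E.X (n + 1)),
      ∃ t' : E.X (n + 1) →ₗ[R] E.X (n + 2),
        (∀ x, (E.d (n + 1) n).hom (x - t ((E.d (n + 1) n).hom x)) = 0) →
          ∀ x, (E.d (n + 2) (n + 1)).hom (t' x) = x - t ((E.d (n + 1) n).hom x) := by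
    intro n t
    by_cases hh : ∀ x, (E.d (n + 1) n).hom (x - t ((E.d (n + 1) n).hom x)) = 0
    · let φ : E.X (n + 1) →ₗ[R] LinearMap.range (E.d (n + 2) (n + 1)).hom :=
        (LinearMap.id - t.comp (E.d (n + 1) n).hom).codRestrict _ fun x => h1 n _ (hh x)
      obtain ⟨t', ht'⟩ := Module.projective_lifting_property (E.d (n + 2) (n + 1)).hom.rangeRestrict φ
        (LinearMap.surjective_rangeRestrict _)
      exact ⟨t', fun _ x => congrArg Subtype.val (LinearMap.congr_fun ht' x)⟩
    · exact ⟨0, fun h => absurd h hh⟩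
  choose next hnext using step
  let s : ∀ n, E.X n →ₗ[R] E.X (n + 1) := fun n => Nat.rec s0 (fun m t => next m t) n
  refine ⟨s, fun x => LinearMap.congr_fun hs0 x, fun n => ?_⟩
  suffices h : ∀ n x, (E.d (n + 1) n).hom (x - s n ((E.d (n + 1) n).hom x)) = 0 by
    intro x
    show (E.d (n + 2) (n + 1)).hom (next n (s n) x) + _ = x
    rw [hnext n (s n) (h n), sub_add_cancel]
  intro n
  induction n with
  | zero =>
    intro x
    rw [map_sub, show s 0 = s0 from rfl, show (E.d 1 0).hom (s0 ((E.d 1 0).hom x)) = _ from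
      LinearMap.congr_fun hs0 _]
    exact sub_self _
  | succ n ih =>
    intro x
    rw [map_sub, show (E.d (n + 2) (n + 1)).hom (s (n + 1) ((E.d (n + 2) (n + 1)).hom x)) = _ from
      hnext n (s n) ih _, d_d_apply, map_zero, sub_zero, sub_self]

end chain

end Groth.Agent.CxLib
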