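import Groth.Agent.CxLib.Homology

/-!
Splitting of degreewise injective quasi-isomorphisms with projective cokernels.
-/

open CategoryTheory Limits

namespace Groth.Agent.CxLib

universe v u

variable {R : Type u} [Ring R] {A' A A'' : ChainComplex (ModuleCat.{v} R) ℕ}

/-- A chain map section of `p`. -/
theorem exists_section (f : A' ⟶ A) (p : A ⟶ A'') [∀ q, Module.Projective R (A''.X q)]
    (hf : ∀ q, Function.Injective (f.f q).hom) (hp : ∀ q, Function.Surjective (p.f q).hom)
    (hfp : ∀ q, Function.Exact (f.f q).hom (p.f q).hom) [QuasiIso f] :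
    ∃ h : A'' ⟶ A, ∀ q x, (p.f q).hom ((h.f q).hom x) = x := by
  obtain ⟨h0, h1⟩ := exists_d_eq_of_quasiIso f p hf hp hfp
  obtain ⟨s, hs0, hs⟩ := exists_contracting A'' h0 h1
  choose σ hσ using fun q => Module.projective_lifting_property (p.f q).hom LinearMap.id (hp q)
  have hσ' : ∀ q x, (p.f q).hom (σ q x) = x := fun q x => LinearMap.congr_fun (hσ q) x
  let hmap : ∀ q, A''.X q →ₗ[R] A.X q := fun q => Nat.rec
    ((A.d 1 0).hom.comp ((σ 1).comp (s 0)))
    (fun n _ => (A.d (n + 2) (n + 1)).hom.comp ((σ (n + 2)).comp (s (n + 1))) +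
      (σ (n + 1)).comp ((s n).comp (A''.d (n + 1) n).hom)) q
  refine ⟨{ f := fun q => ModuleCat.ofHom (hmap q), comm' := ?_ }, ?_⟩
  · rintro i j (rfl : j + 1 = i)
    ext x
    show (A.d (j + 1) j).hom (hmap (j + 1) x) = hmap j ((A''.d (j + 1) j).hom x)
    show (A.d (j + 1) j).hom ((A.d (j + 2) (j + 1)).hom (σ (j + 2) (s (j + 1) x)) +
      σ (j + 1) (s j ((A''.d (j + 1) j).hom x))) = _
    rw [map_add, d_d_apply, zero_add]
    cases j with
    | zero => rfl
    | succ j =>
      show _ = (A.d (j + 2) (j + 1)).hom (σ (j + 2) (s (j + 1) ((A''.d (j + 2) (j + 1)).hom x))) +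
        σ (j + 1) (s j ((A''.d (j + 1) j).hom ((A''.d (j + 2) (j + 1)).hom x)))
      rw [d_d_apply, map_zero, map_zero, add_zero]
  · intro q x
    show (p.f q).hom (hmap q x) = x
    cases q with
    | zero =>
      show (p.f 0).hom ((A.d 1 0).hom (σ 1 (s 0 x))) = x
      rw [← comm_apply, hσ', hs0]
    | succ n =>
      show (p.f (n + 1)).hom ((A.d (n + 2) (n + 1)).hom (σ (n + 2) (s (n + 1) x)) +
        σ (n + 1) (s n ((A''.d (n + 1) n).hom x))) = x
      rw [map_add, ← comm_apply, hσ', hσ']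
      exact hs n x

variable (f : A' ⟶ A)

lemma range_le_comap (i j : ℕ) :
    LinearMap.range (f.f i).hom ≤ (LinearMap.range (f.f j).hom).comap (A.d i j).hom := by
  rintro _ ⟨x, rfl⟩
  exact ⟨(A'.d i j).hom x, (comm_apply f i j x).symm⟩

/-- The degreewise cokernel complex. -/
noncomputable def quot : ChainComplex (ModuleCat.{v} R) ℕ where
  X q := ModuleCat.of R (A.X q ⧸ LinearMap.range (f.f q).hom)
  d i j := ModuleCat.ofHom (Submodule.mapQ _ _ (A.d i j).hom (range_le_comap f i j))
  shape i j h := by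
    refine ModuleCat.hom_ext (Submodule.linearMap_qext _ (LinearMap.ext fun x => ?_))
    show Submodule.Quotient.mk ((A.d i j).hom x) = _
    rw [A.shape i j h]
    rfl
  d_comp_d' i j k _ _ := by
    refine ModuleCat.hom_ext (Submodule.linearMap_qext _ (LinearMap.ext fun x => ?_))
    show Submodule.Quotient.mk ((A.d j k).hom ((A.d i j).hom x)) = _
    rw [d_d_apply]
    rfl

/-- The projection onto the cokernel complex. -/
noncomputable def proj : A ⟶ quot f where
  f q := ModuleCat.ofHom (LinearMap.range (f.f q).hom).mkQ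
  comm' i j _ := rfl

lemma proj_surjective (q : ℕ) : Function.Surjective ((proj f).f q).hom :=
  Submodule.mkQ_surjective _

lemma proj_exact (q : ℕ) : Function.Exact (f.f q).hom ((proj f).f q).hom :=
  LinearMap.exact_map_mkQ_range _

/-- A chain-level retraction of `f`. -/
theorem exists_retraction [QuasiIso f] (hf : ∀ q, Function.Injective (f.f q).hom)
    (hq : ∀ q, Module.Projective R ((A.X q) ⧸ LinearMap.range (f.f q).hom)) :
    ∃ g : A ⟶ A', f ≫ g = 𝟙 A' := by
  haveI : ∀ q, Module.Projective R ((quot f).X q) := hq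
  obtain ⟨h, hh⟩ := exists_section f (proj f) hf (proj_surjective f) (proj_exact f)
  have hmem : ∀ q (a : A.X q), a - (h.f q).hom (((proj f).f q).hom a) ∈ LinearMap.range (f.f q).hom := by
    intro q a
    refine (Submodule.Quotient.mk_eq_zero _).mp ?_
    show ((proj f).f q).hom (a - _) = 0
    rw [map_sub, hh, sub_self]
  let e := fun q => LinearEquiv.ofInjective (f.f q).hom (hf q)
  let g : ∀ q, A.X q →ₗ[R] A'.X q := fun q =>
    (e q).symm.toLinearMap.comp ((LinearMap.id - (h.f q).hom.comp ((proj f).f q).hom).codRestrict _ (hmem q))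
  have hfg : ∀ q a, (f.f q).hom (g q a) = a - (h.f q).hom (((proj f).f q).hom a) := fun q a => by
    show (f.f q).hom ((e q).symm
      ((LinearMap.id - (h.f q).hom.comp ((proj f).f q).hom).codRestrict _ (hmem q) a)) = _
    have := congrArg Subtype.val ((e q).apply_symm_apply
      ((LinearMap.id - (h.f q).hom.comp ((proj f).f q).hom).codRestrict _ (hmem q) a))
    rw [LinearEquiv.ofInjective_apply] at this
    exact this
  refine ⟨{ f := fun q => ModuleCat.ofHom (g q), comm' := ?_ }, ?_⟩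
  · intro i j _
    ext a
    show (A'.d i j).hom (g i a) = g j ((A.d i j).hom a)
    refine hf j ?_
    rw [hfg, ← comm_apply, hfg, map_sub, comm_apply h]
    rfl
  · ext q a
    show g q ((f.f q).hom a) = a
    refine hf q ?_
    rw [hfg, (proj_exact f q).apply_apply_eq_zero, map_zero, sub_zero]

/-- The difference of two retractions is contracted by maps vanishing on the image of `f`. -/
theorem exists_hom_of_retractions [QuasiIso f] (hf : ∀ q, Function.Injective (f.f q).hom)
    (hq : ∀ q, Module.Projective R ((A.X q) ⧸ LinearMap.range (f.f q).hom))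
    (g₁ g₂ : A ⟶ A') (h₁ : f ≫ g₁ = 𝟙 A') (h₂ : f ≫ g₂ = 𝟙 A') :
    ∃ t : ∀ n, A.X n →ₗ[R] A'.X (n + 1),
      (∀ n x, t n ((f.f n).hom x) = 0) ∧
      (∀ x, (g₁.f 0).hom x - (g₂.f 0).hom x = (A'.d 1 0).hom (t 0 x)) ∧
      ∀ n x, (g₁.f (n + 1)).hom x - (g₂.f (n + 1)).hom x =
        (A'.d (n + 2) (n + 1)).hom (t (n + 1) x) + t n ((A.d (n + 1) n).hom x) := by
  haveI : ∀ q, Module.Projective R ((quot f).X q) := hq
  obtain ⟨h0, h1⟩ := exists_d_eq_of_quasiIso f (proj f) hf (proj_surjective f) (proj_exact f)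
  obtain ⟨s, hs0, hs⟩ := exists_contracting (quot f) h0 h1
  have hker : ∀ q, LinearMap.range (f.f q).hom ≤ LinearMap.ker ((g₁.f q).hom - (g₂.f q).hom) := by
    rintro q _ ⟨x, rfl⟩
    have e1 := congrArg (fun φ : A' ⟶ A' => (φ.f q).hom x) h₁
    have e2 := congrArg (fun φ : A' ⟶ A' => (φ.f q).hom x) h₂
    exact LinearMap.mem_ker.mpr (sub_eq_zero.mpr (e1.trans e2.symm))
  let φ : ∀ q, ((quot f).X q) →ₗ[R] A'.X q := fun q =>
    (LinearMap.range (f.f q).hom).liftQ ((g₁.f q).hom - (g₂.f q).hom) (hker q)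
  have hφc : ∀ i j y, (A'.d i j).hom (φ i y) = φ j (((quot f).d i j).hom y) := by
    intro i j y
    obtain ⟨a, rfl⟩ := proj_surjective f i y
    show (A'.d i j).hom ((g₁.f i).hom a - (g₂.f i).hom a) =
      (g₁.f j).hom ((A.d i j).hom a) - (g₂.f j).hom ((A.d i j).hom a)
    rw [map_sub, comm_apply, comm_apply]
  refine ⟨fun n => (φ (n + 1)).comp ((s n).comp ((proj f).f n).hom), fun n x => ?_, fun x => ?_, fun n x => ?_⟩
  · show φ (n + 1) (s n (((proj f).f n).hom ((f.f n).hom x))) = 0
    rw [(proj_exact f n).apply_apply_eq_zero, map_zero, map_zero]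
  · show _ = (A'.d 1 0).hom (φ 1 (s 0 (((proj f).f 0).hom x)))
    rw [hφc, hs0]
    rfl
  · show _ = (A'.d (n + 2) (n + 1)).hom (φ (n + 2) (s (n + 1) (((proj f).f (n + 1)).hom x))) +
      φ (n + 1) (s n (((proj f).f n).hom ((A.d (n + 1) n).hom x)))
    rw [hφc, ← map_add, ← comm_apply, hs]
    rfl

/-- Freeness over `ℤ` gives projectivity for any of the (equal) `ℤ`-module structures. -/
theorem projective_int {M : Type v} [AddCommGroup M] {i₁ i₂ : Module ℤ M}
    (h : @Module.Free ℤ M _ _ i₁) : @Module.Projective ℤ _ M _ i₂ := by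
  obtain rfl : i₁ = i₂ := Subsingleton.elim _ _
  exact Module.Projective.of_free

end Groth.Agent.CxLib
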