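import Groth.Agent.CxLib.Homology

/-!
Elementwise API for the tensor product of chain complexes of modules, and comparison of `H₁` of the
derived and plain tensor product with a module.
-/

open CategoryTheory Limits MonoidalCategory HomologicalComplex TensorProduct

namespace Groth.Agent.CxLib

universe v

variable {R : Type v} [CommRing R] (C P : ChainComplex (ModuleCat.{v} R) ℕ)

/-- The summand inclusion into the tensor product complex. -/
noncomputable abbrev tι (a b j : ℕ) (h : a + b = j) : (C.X a ⊗ P.X b : ModuleCat.{v} R) ⟶ (C ⊗ P).X j :=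
  ιTensorObj C P a b j h

/-- The projection onto a summand. -/
noncomputable def tproj (a b j : ℕ) (_h : a + b = j) : (C ⊗ P).X j ⟶ (C.X a ⊗ P.X b : ModuleCat.{v} R) :=
  mapBifunctorDesc (K₁ := C) (K₂ := P) (F := curriedTensor (ModuleCat.{v} R)) (c := ComplexShape.down ℕ)
    (fun a' b' _ => if h' : a' = a ∧ b' = b then eqToHom (by obtain ⟨rfl, rfl⟩ := h'; rfl) else 0)

lemma tι_injective (a b j : ℕ) (h : a + b = j) : Function.Injective (tι C P a b j h).hom := by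
  have : tι C P a b j h ≫ tproj C P a b j h = 𝟙 _ := by
    unfold tproj
    rw [ι_mapBifunctorDesc]
    simp
  intro x y hxy
  have := congrArg (fun φ => φ.hom x) this
  rw [show (tι C P a b j h ≫ tproj C P a b j h).hom x = (tproj C P a b j h).hom ((tι C P a b j h).hom x) from rfl,
    hxy] at this
  refine Eq.trans this.symm ?_
  exact congrArg (fun φ => φ.hom y) (show tι C P a b j h ≫ tproj C P a b j h = 𝟙 _ by
    unfold tproj
    rw [ι_mapBifunctorDesc]
    simp)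

lemma mem_iSup_range (j : ℕ) (x : (C ⊗ P).X j) :
    x ∈ ⨆ (a : ℕ) (b : ℕ) (h : a + b = j), LinearMap.range (tι C P a b j h).hom := by
  set S := ⨆ (a : ℕ) (b : ℕ) (h : a + b = j), LinearMap.range (tι C P a b j h).hom
  have h0 : ModuleCat.ofHom S.mkQ = 0 := by
    refine mapBifunctor.hom_ext (K₁ := C) (K₂ := P) (F := curriedTensor (ModuleCat.{v} R))
      (c := ComplexShape.down ℕ) fun a b h => ?_
    rw [comp_zero]
    refine ModuleCat.hom_ext (LinearMap.ext fun y => ?_)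
    show S.mkQ ((tι C P a b j h).hom y) = 0
    rw [Submodule.mkQ_apply, Submodule.Quotient.mk_eq_zero]
    exact Submodule.mem_iSup_of_mem a (Submodule.mem_iSup_of_mem b (Submodule.mem_iSup_of_mem h ⟨y, rfl⟩))
  exact (Submodule.Quotient.mk_eq_zero S).mp (congrArg (fun φ => φ.hom x) h0)

lemma exists_eq_zero (x : (C ⊗ P).X 0) : ∃ u, (tι C P 0 0 0 rfl).hom u = x := by
  have hx := mem_iSup_range C P 0 x
  refine (show (⨆ (a : ℕ) (b : ℕ) (h : a + b = 0), LinearMap.range (tι C P a b 0 h).hom) ≤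
    LinearMap.range (tι C P 0 0 0 rfl).hom from ?_) hx
  refine iSup_le fun a => iSup_le fun b => iSup_le fun h => ?_
  obtain ⟨rfl, rfl⟩ : a = 0 ∧ b = 0 := by omega
  exact le_rfl

lemma exists_eq_one (x : (C ⊗ P).X 1) :
    ∃ u v, (tι C P 1 0 1 rfl).hom u + (tι C P 0 1 1 rfl).hom v = x := by
  have hx := mem_iSup_range C P 1 x
  have := (show (⨆ (a : ℕ) (b : ℕ) (h : a + b = 1), LinearMap.range (tι C P a b 1 h).hom) ≤
    LinearMap.range (tι C P 1 0 1 rfl).hom ⊔ LinearMap.range (tι C P 0 1 1 rfl).hom from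
    iSup_le fun a => iSup_le fun b => iSup_le fun h => by
      obtain ⟨rfl, rfl⟩ | ⟨rfl, rfl⟩ : (a = 1 ∧ b = 0) ∨ (a = 0 ∧ b = 1) := by omega
      · exact le_sup_left
      · exact le_sup_right) hx
  obtain ⟨_, ⟨u, rfl⟩, _, ⟨v, rfl⟩, he⟩ := Submodule.mem_sup.mp this
  exact ⟨u, v, he⟩

lemma exists_eq_two (x : (C ⊗ P).X 2) :
    ∃ w t s, (tι C P 2 0 2 rfl).hom w + (tι C P 1 1 2 rfl).hom t + (tι C P 0 2 2 rfl).hom s = x := by
  have hx := mem_iSup_range C P 2 x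
  have := (show (⨆ (a : ℕ) (b : ℕ) (h : a + b = 2), LinearMap.range (tι C P a b 2 h).hom) ≤
    LinearMap.range (tι C P 2 0 2 rfl).hom ⊔ LinearMap.range (tι C P 1 1 2 rfl).hom ⊔
      LinearMap.range (tι C P 0 2 2 rfl).hom from
    iSup_le fun a => iSup_le fun b => iSup_le fun h => by
      obtain ⟨rfl, rfl⟩ | ⟨rfl, rfl⟩ | ⟨rfl, rfl⟩ :
        (a = 2 ∧ b = 0) ∨ (a = 1 ∧ b = 1) ∨ (a = 0 ∧ b = 2) := by omega
      · exact le_sup_of_le_left le_sup_left
      · exact le_sup_of_le_left le_sup_right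
      · exact le_sup_right) hx
  obtain ⟨_, hwt, _, ⟨s, rfl⟩, he⟩ := Submodule.mem_sup.mp this
  obtain ⟨_, ⟨w, rfl⟩, _, ⟨t, rfl⟩, he'⟩ := Submodule.mem_sup.mp hwt
  exact ⟨w, t, s, by rw [he', he]⟩

lemma d_tι (a b j j' : ℕ) (h : a + b = j) :
    tι C P a b j h ≫ (C ⊗ P).d j j' =
      mapBifunctor.d₁ C P (curriedTensor (ModuleCat.{v} R)) (ComplexShape.down ℕ) a b j' +
      mapBifunctor.d₂ C P (curriedTensor (ModuleCat.{v} R)) (ComplexShape.down ℕ) a b j' := by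
  show ιMapBifunctor C P _ _ a b j h ≫ (mapBifunctor C P _ _).d j j' = _
  rw [mapBifunctor.d_eq, Preadditive.comp_add, mapBifunctor.ι_D₁, mapBifunctor.ι_D₂]

lemma d₁_succ (a b j : ℕ) (h : a + b = j) :
    mapBifunctor.d₁ C P (curriedTensor (ModuleCat.{v} R)) (ComplexShape.down ℕ) (a + 1) b j =
      (C.d (a + 1) a ▷ P.X b) ≫ tι C P a b j h := by
  rw [mapBifunctor.d₁_eq _ _ _ _ (show (ComplexShape.down ℕ).Rel (a + 1) a by simp) _ _ h]
  show (1 : ℤˣ) • _ = _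
  rw [one_smul]
  rfl

lemma d₁_zero (b j : ℕ) :
    mapBifunctor.d₁ C P (curriedTensor (ModuleCat.{v} R)) (ComplexShape.down ℕ) 0 b j = 0 :=
  mapBifunctor.d₁_eq_zero _ _ _ _ _ _ _ (by simp)

lemma d₂_succ (a b j : ℕ) (h : a + b = j) :
    mapBifunctor.d₂ C P (curriedTensor (ModuleCat.{v} R)) (ComplexShape.down ℕ) a (b + 1) j =
      (-1 : ℤ) ^ a • (C.X a ◁ P.d (b + 1) b) ≫ tι C P a b j h := by
  rw [mapBifunctor.d₂_eq _ _ _ _ _ (show (ComplexShape.down ℕ).Rel (b + 1) b by simp) _ h]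
  show ((ComplexShape.down ℕ).ε a : ℤˣ) • _ = _
  rw [ComplexShape.ε_down_ℕ, Units.smul_def, Units.val_pow_eq_pow_val, Units.val_neg, Units.val_one]
  rfl

lemma d₂_zero (a j : ℕ) :
    mapBifunctor.d₂ C P (curriedTensor (ModuleCat.{v} R)) (ComplexShape.down ℕ) a 0 j = 0 :=
  mapBifunctor.d₂_eq_zero _ _ _ _ _ _ _ (by simp)

lemma d10 (u : (C.X 1 ⊗ P.X 0 : ModuleCat.{v} R)) :
    ((C ⊗ P).d 1 0).hom ((tι C P 1 0 1 rfl).hom u) =
      (tι C P 0 0 0 rfl).hom (((C.d 1 0).hom.rTensor (P.X 0)) u) := by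
  have h := d_tι C P 1 0 1 0 rfl
  rw [d₁_succ C P 0 0 0 rfl, d₂_zero] at h
  replace h := h.trans (add_zero _)
  exact congrArg (fun φ => φ.hom u) h

lemma d01 (v : (C.X 0 ⊗ P.X 1 : ModuleCat.{v} R)) :
    ((C ⊗ P).d 1 0).hom ((tι C P 0 1 1 rfl).hom v) =
      (tι C P 0 0 0 rfl).hom (((P.d 1 0).hom.lTensor (C.X 0)) v) := by
  have h := d_tι C P 0 1 1 0 rfl
  rw [d₁_zero, d₂_succ C P 0 0 0 rfl, pow_zero, one_smul] at h
  replace h := h.trans (zero_add _)
  exact congrArg (fun φ => φ.hom v) h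

lemma d20 (w : (C.X 2 ⊗ P.X 0 : ModuleCat.{v} R)) :
    ((C ⊗ P).d 2 1).hom ((tι C P 2 0 2 rfl).hom w) =
      (tι C P 1 0 1 rfl).hom (((C.d 2 1).hom.rTensor (P.X 0)) w) := by
  have h := d_tι C P 2 0 2 1 rfl
  rw [d₁_succ C P 1 0 1 rfl, d₂_zero] at h
  replace h := h.trans (add_zero _)
  exact congrArg (fun φ => φ.hom w) h

lemma d11 (t : (C.X 1 ⊗ P.X 1 : ModuleCat.{v} R)) :
    ((C ⊗ P).d 2 1).hom ((tι C P 1 1 2 rfl).hom t) =
      (tι C P 0 1 1 rfl).hom (((C.d 1 0).hom.rTensor (P.X 1)) t) -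
        (tι C P 1 0 1 rfl).hom (((P.d 1 0).hom.lTensor (C.X 1)) t) := by
  have h := d_tι C P 1 1 2 1 rfl
  rw [d₁_succ C P 0 1 1 rfl, d₂_succ C P 1 0 1 rfl, pow_one, neg_one_smul,
    ← sub_eq_add_neg] at h
  exact congrArg (fun φ => φ.hom t) h

lemma d02 (s : (C.X 0 ⊗ P.X 2 : ModuleCat.{v} R)) :
    ((C ⊗ P).d 2 1).hom ((tι C P 0 2 2 rfl).hom s) =
      (tι C P 0 1 1 rfl).hom (((P.d 2 1).hom.lTensor (C.X 0)) s) := by
  have h := d_tι C P 0 2 2 1 rfl
  rw [d₁_zero, d₂_succ C P 0 1 1 rfl, pow_zero, one_smul] at h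
  replace h := h.trans (zero_add _)
  exact congrArg (fun φ => φ.hom s) h

lemma whiskerLeft_tι {Q : ChainComplex (ModuleCat.{v} R) ℕ} (π : P ⟶ Q) (a b j : ℕ) (h : a + b = j)
    (u : (C.X a ⊗ P.X b : ModuleCat.{v} R)) :
    ((C ◁ π).f j).hom ((tι C P a b j h).hom u) = (tι C Q a b j h).hom (((π.f b).hom.lTensor (C.X a)) u) := by
  have h1 : tι C P a b j h ≫ (C ◁ π).f j = (C.X a ◁ π.f b) ≫ tι C Q a b j h := by
    show ιMapBifunctor C P _ _ a b j h ≫ (mapBifunctorMap (𝟙 C) π _ _).f j = _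
    rw [ι_mapBifunctorMap]
    simp
  exact congrArg (fun φ => φ.hom u) h1

/-- `H₁` of `C ⊗ P → C ⊗ Q` is bijective for a resolution `P → Q` of a complex concentrated in
degree `0` and `C₀` flat. -/
theorem isIso_homologyMap_one' [Module.Flat R (C.X 0)] {Q : ChainComplex (ModuleCat.{v} R) ℕ}
    (hz : ∀ b, b ≠ 0 → ∀ q : Q.X b, q = 0) (π : P ⟶ Q) [QuasiIso π] :
    IsIso (HomologicalComplex.homologyMap (C ◁ π) 1) := by
  haveI : ∀ i, IsIso (HomologicalComplex.homologyMap π i) := fun i => inferInstance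
  have hsurj : Function.Surjective (π.f 0).hom := fun y => by
    obtain ⟨x, w, hw⟩ := (epi_homologyMap_zero_iff π).mp inferInstance y
    rw [hz 1 one_ne_zero w, map_zero, eq_comm, sub_eq_zero] at hw
    exact ⟨x, hw.symm⟩
  have hex0 : Function.Exact (P.d 1 0).hom (π.f 0).hom := fun x =>
    ⟨fun hx => (mono_homologyMap_zero_iff π).mp inferInstance x ⟨0, by rw [map_zero, hx]⟩, by
      rintro ⟨w, rfl⟩
      rw [← comm_apply, hz 1 one_ne_zero ((π.f 1).hom w), map_zero]⟩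
  have hex1 : Function.Exact (P.d 2 1).hom (P.d 1 0).hom := fun x =>
    ⟨fun hx => (mono_homologyMap_succ_iff π 0).mp inferInstance x hx
      ⟨0, by rw [map_zero]; exact (hz 1 one_ne_zero _).symm⟩, by
      rintro ⟨w, rfl⟩
      exact d_d_apply P 2 1 0 w⟩
  have hzT : ∀ a b, b ≠ 0 → ∀ q : (C.X a ⊗ Q.X b : ModuleCat.{v} R), q = 0 := fun a b hb q => by
    induction q using TensorProduct.induction_on with
    | zero => rfl
    | tmul c g => rw [hz b hb g, tmul_zero]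
    | add x y hx hy => rw [hx, hy, add_zero]
  have hlex : ∀ a, Function.Exact ((P.d 1 0).hom.lTensor (C.X a)) ((π.f 0).hom.lTensor (C.X a)) :=
    fun a => lTensor_exact _ hex0 hsurj
  have hls : ∀ a, Function.Surjective ((π.f 0).hom.lTensor (C.X a)) :=
    fun a => LinearMap.lTensor_surjective _ hsurj
  have hnat : ∀ i j (u : TensorProduct R (C.X i) (P.X 0)),
      (π.f 0).hom.lTensor (C.X j) ((C.d i j).hom.rTensor (P.X 0) u) =
        (C.d i j).hom.rTensor (Q.X 0) ((π.f 0).hom.lTensor (C.X i) u) := fun i j u => by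
    induction u using TensorProduct.induction_on with
    | zero => simp
    | tmul c g => simp
    | add x y hx hy => simp only [map_add, hx, hy]
  rw [isIso_iff_mono_and_epi, mono_homologyMap_succ_iff (C ◁ π) 0, epi_homologyMap_succ_iff (C ◁ π) 0]
  constructor
  · rintro x hx ⟨w', hw'⟩
    obtain ⟨u, v, rfl⟩ := exists_eq_one C P x
    obtain ⟨w₀, t₀, s₀, rfl⟩ := exists_eq_two C Q w'
    rw [hzT 1 1 one_ne_zero t₀, hzT 0 2 two_ne_zero s₀, map_zero, map_zero, add_zero, add_zero, d20, map_add,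
      whiskerLeft_tι, whiskerLeft_tι, hzT 0 1 one_ne_zero ((π.f 1).hom.lTensor (C.X 0) v), map_zero] at hw'
    replace hw' := hw'.trans (add_zero _)
    have hw := tι_injective C Q 1 0 1 rfl hw'
    obtain ⟨w, rfl⟩ := hls 2 w₀
    obtain ⟨t, ht⟩ := (hlex 1 (u - (C.d 2 1).hom.rTensor (P.X 0) w)).mp (by
      rw [map_sub, hnat, hw, sub_self])
    have hxx : ((C ⊗ P).d 2 1).hom ((tι C P 2 0 2 rfl).hom w - (tι C P 1 1 2 rfl).hom t) +
        (tι C P 0 1 1 rfl).hom (v + (C.d 1 0).hom.rTensor (P.X 1) t) =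
        (tι C P 1 0 1 rfl).hom u + (tι C P 0 1 1 rfl).hom v := by
      rw [map_sub, d20, d11, ht, map_sub, map_add]
      abel
    rw [← hxx, map_add, d_d_apply, zero_add, d01] at hx
    have hv := tι_injective C P 0 0 0 rfl (hx.trans (map_zero _).symm)
    obtain ⟨s, hs⟩ := (Module.Flat.lTensor_exact (C.X 0) hex1 _).mp hv
    refine ⟨(tι C P 2 0 2 rfl).hom w - (tι C P 1 1 2 rfl).hom t + (tι C P 0 2 2 rfl).hom s, ?_⟩
    rw [map_add, d02, hs]
    exact hxx
  · intro y hy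
    obtain ⟨y₀, y₁, rfl⟩ := exists_eq_one C Q y
    rw [hzT 0 1 one_ne_zero y₁, map_zero, add_zero] at hy ⊢
    rw [d10] at hy
    have hy0 := tι_injective C Q 0 0 0 rfl (hy.trans (map_zero _).symm)
    obtain ⟨u, rfl⟩ := hls 1 y₀
    obtain ⟨v, hv⟩ := (hlex 0 ((C.d 1 0).hom.rTensor (P.X 0) u)).mp (by rw [hnat, hy0])
    refine ⟨(tι C P 1 0 1 rfl).hom u - (tι C P 0 1 1 rfl).hom v, ?_, 0, ?_⟩
    · rw [map_sub, d10, d01, hv, sub_self]
    · rw [map_zero, map_sub, whiskerLeft_tι, whiskerLeft_tι,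
        hzT 0 1 one_ne_zero ((π.f 1).hom.lTensor (C.X 0) v), map_zero, sub_zero, sub_self]

/-- The case of a resolution of a module placed in degree `0`. -/
theorem isIso_homologyMap_one (G : ModuleCat.{v} R) [Module.Flat R (C.X 0)]
    (π : P ⟶ (ChainComplex.single₀ (ModuleCat.{v} R)).obj G) [QuasiIso π] :
    IsIso (HomologicalComplex.homologyMap (C ◁ π) 1) :=
  isIso_homologyMap_one' C P (fun b hb q => by
    haveI := ModuleCat.subsingleton_of_isZero
      (HomologicalComplex.isZero_single_obj_X (ComplexShape.down ℕ) 0 G b hb)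
    exact Subsingleton.elim _ _) π

end Groth.Agent.CxLib
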